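import Cfsg.Agent.AlperinGoldschmidt.Basic
import Cfsg.Agent.LocalEvenBasic.SylowGraph
import Cfsg.Agent.Coprime.Generation

/-!
A group with disconnected Sylow graph has a least normal subgroup of order divisible by `p`.
-/

set_option autoImplicit false

namespace CfsgLib.AlperinGoldschmidt

open Subgroup
open scoped commutatorElement

variable {G : Type*} [Group G] [Finite G] {p : ℕ} [hp : Fact p.Prime]

theorem dvd_card_inf_of_not_connected (h : ¬ Cfsg.IsSylowChainConnected p G)
    {Y₁ Y₂ : Subgroup G} [Y₁.Normal] [Y₂.Normal] (h1 : p ∣ Nat.card Y₁) (h2 : p ∣ Nat.card Y₂) :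
    p ∣ Nat.card ↥(Y₁ ⊓ Y₂) := by
  by_contra hK
  set K := Y₁ ⊓ Y₂ with hKdef
  obtain ⟨M, hM, hpM, hN⟩ := CfsgLib.LocalEvenBasic.exists_normalizersLE_of_not_connected h
  obtain ⟨S, hS1, hSM⟩ := CfsgLib.LocalEven.exists_sylow_le_of_normalizersLE hN hpM
  have helt : ∀ (Y : Subgroup G) [Y.Normal], p ∣ Nat.card Y →
      ∃ a ∈ (S : Subgroup G), a ∈ Y ∧ orderOf a = p := by
    intro Y _ hY
    obtain ⟨y, hy⟩ := exists_prime_orderOf_dvd_card' p hY
    rw [← orderOf_coe] at hy
    have hyp : IsPGroup p (zpowers (y : G)) :=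
      IsPGroup.of_card (n := 1) (by rw [Nat.card_zpowers, hy, pow_one])
    obtain ⟨Q, hQ⟩ := hyp.exists_le_sylow
    obtain ⟨g, hg⟩ := MulAction.exists_smul_eq G Q S
    refine ⟨MulAut.conj g (y : G), ?_, (inferInstance : Y.Normal).conj_mem _ y.2 g, ?_⟩
    · rw [← hg, Sylow.coe_subgroup_smul]
      exact ⟨_, hQ (mem_zpowers _), rfl⟩
    · rw [MulEquiv.orderOf_eq, hy]
  obtain ⟨a, haS, haY, hao⟩ := helt Y₁ h1
  obtain ⟨b, hbS, hbY, hbo⟩ := helt Y₂ h2
  have hKS : ∀ x ∈ K, x ∈ (S : Subgroup G) → x = 1 := by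
    intro x hx hxS
    obtain ⟨k, hk⟩ := IsPGroup.iff_orderOf.1 S.2 ⟨x, hxS⟩
    rw [Subgroup.orderOf_mk] at hk
    rcases k with _ | k
    · exact orderOf_eq_one_iff.1 (by rw [hk, pow_zero])
    · refine absurd ?_ hK
      refine (dvd_pow_self p (Nat.succ_ne_zero k)).trans (hk ▸ ?_)
      rw [← Subgroup.orderOf_mk x hx]
      exact orderOf_dvd_natCard _
  have hab : Commute a b := by
    rw [← commutatorElement_eq_one_iff_commute]
    refine hKS _ (Subgroup.mem_inf.2 ⟨?_, ?_⟩) ?_
    · exact commutator_le_left Y₁ ⊤ (commutator_mem_commutator haY (mem_top b))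
    · exact commutator_le_right ⊤ Y₂ (commutator_mem_commutator (mem_top a) hbY)
    · exact Subgroup.mul_mem _ (Subgroup.mul_mem _ (Subgroup.mul_mem _ haS hbS)
        (Subgroup.inv_mem _ haS)) (Subgroup.inv_mem _ hbS)
  have ha1 : a ≠ 1 := fun e => by rw [e, orderOf_one] at hao; exact hp.out.ne_one hao.symm
  have hb1 : b ≠ 1 := fun e => by rw [e, orderOf_one] at hbo; exact hp.out.ne_one hbo.symm
  set E := zpowers a ⊔ zpowers b with hE
  have hEc : IsMulCommutative ↥E := by
    refine le_centralizer_iff_isMulCommutative.1 (sup_le ?_ ?_) <;> rw [le_centralizer_iff] <;>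
      refine sup_le (zpowers_le.2 ?_) (zpowers_le.2 ?_) <;> rw [mem_centralizer_iff] <;>
      rintro _ ⟨i, rfl⟩
    · exact ((Commute.refl a).zpow_left i).eq
    · exact (hab.zpow_left i).eq
    · exact (hab.symm.zpow_left i).eq
    · exact ((Commute.refl b).zpow_left i).eq
  have hES : E ≤ (S : Subgroup G) := sup_le (zpowers_le.2 haS) (zpowers_le.2 hbS)
  have hEnc : ¬ IsCyclic ↥E := by
    intro hc
    classical
    have : Fintype ↥E := Fintype.ofFinite _
    have e1 : zpowers (⟨a, mem_sup_left (mem_zpowers a)⟩ : ↥E) =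
        zpowers (⟨b, mem_sup_right (mem_zpowers b)⟩ : ↥E) := by
      have key : ∀ v : ↥E, orderOf v = p →
          (Finset.univ.filter fun x : ↥E => x ∈ zpowers v) =
            Finset.univ.filter fun x : ↥E => x ^ p = 1 := by
        intro v hv
        refine Finset.eq_of_subset_of_card_le (fun x hx => ?_) ?_
        · simp only [Finset.mem_filter, Finset.mem_univ, true_and] at hx ⊢
          obtain ⟨i, rfl⟩ := hx
          rw [← zpow_natCast, ← zpow_mul, mul_comm, zpow_mul, zpow_natCast, ← hv, pow_orderOf_eq_one,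
            one_zpow]
        · refine (IsCyclic.card_pow_eq_one_le hp.out.pos).trans ?_
          rw [← Fintype.card_subtype]
          exact le_of_eq (by rw [← Nat.card_eq_fintype_card]; exact (Nat.card_zpowers v).trans hv |>.symm)
      ext x
      have h3 := congrArg (fun t : Finset ↥E => x ∈ t) (key ⟨a, mem_sup_left (mem_zpowers a)⟩ (by rw [Subgroup.orderOf_mk, hao]))
      have h4 := congrArg (fun t : Finset ↥E => x ∈ t) (key ⟨b, mem_sup_right (mem_zpowers b)⟩ (by rw [Subgroup.orderOf_mk, hbo]))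
      simpa using Iff.of_eq (h3.trans h4.symm)
    have : a ∈ Y₂ := by
      have hmem : (⟨a, mem_sup_left (mem_zpowers a)⟩ : ↥E) ∈
          zpowers (⟨b, mem_sup_right (mem_zpowers b)⟩ : ↥E) := e1 ▸ mem_zpowers _
      obtain ⟨i, hi⟩ := mem_zpowers_iff.1 hmem
      have := congrArg Subtype.val hi
      simp only [SubgroupClass.coe_zpow] at this
      exact this ▸ Y₂.zpow_mem hbY i
    exact ha1 (hKS a (Subgroup.mem_inf.2 ⟨haY, this⟩) haS)
  have hKc : (Nat.card E).Coprime (Nat.card K) := by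
    obtain ⟨k, hk⟩ := IsPGroup.iff_card.1 (S.2.to_le hES)
    rw [hk]
    exact ((Nat.Prime.coprime_iff_not_dvd hp.out).2 hK).pow_left k
  have hcentM : ∀ x ∈ (S : Subgroup G), x ≠ 1 → centralizer ({x} : Set G) ≤ M := by
    intro x hx hx1 g hg
    refine hN (zpowers x) (zpowers_le.2 (hSM hx)) (S.2.to_le (zpowers_le.2 hx))
      (by simpa using hx1) ?_
    refine centralizer_le_normalizer _ ?_
    rw [zpowers_eq_closure, centralizer_closure]
    exact hg
  have hKM : K ≤ M :=
    CfsgLib.Coprime.le_of_forall_inf_centralizer_le hEnc le_normalizer_of_normal hKc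
      fun x hx hx1 => inf_le_right.trans (hcentM x (hES hx) hx1)
  have hY2M : Y₂ ≤ M := by
    intro y hy
    obtain ⟨c, hc, hcK⟩ := CfsgLib.Coprime.exists_fixed_mem_coset (A := zpowers a) (N := K)
      le_normalizer_of_normal (hKc.coprime_dvd_left (card_dvd_of_le le_sup_left))
      (Or.inl (Group.isSolvable_of_comm fun u v => mul_comm' u v)) (k := y) (fun x hx => by
        have hxY : x ∈ Y₁ := zpowers_le.2 haY hx
        refine Subgroup.mem_inf.2 ⟨?_, ?_⟩
        · rw [show y⁻¹ * (x * y * x⁻¹) = y⁻¹ * x * y * x⁻¹ by group]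
          exact mul_mem (by simpa using (inferInstance : Y₁.Normal).conj_mem x hxY y⁻¹) (inv_mem hxY)
        · exact mul_mem (inv_mem hy) ((inferInstance : Y₂.Normal).conj_mem y hy x))
    have h3 : c ∈ M := hcentM a haS ha1 (by
      rwa [zpowers_eq_closure, centralizer_closure] at hc)
    have h4 := mul_mem h3 (inv_mem (hKM hcK))
    simpa [mul_assoc] using h4
  apply hM
  rw [eq_top_iff]
  intro x _
  have hidx : ¬ p ∣ ((S : Subgroup G) ⊓ ⊤).relIndex ⊤ := by
    rw [inf_top_eq, relIndex_top_right]; exact S.not_dvd_index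
  obtain ⟨w, hw, y, -, hy, rfl⟩ := frattini_step (P := S) hidx (le_top : Y₂ ≤ ⊤)
    le_normalizer_of_normal (mem_top x)
  refine mul_mem (hY2M hw) (hN _ (inf_le_left.trans hSM) S.2.to_inf_left ?_ hy)
  exact fun e => hb1 (by
    have : b ∈ (S : Subgroup G) ⊓ Y₂ := Subgroup.mem_inf.2 ⟨hbS, hbY⟩
    rwa [e, mem_bot] at this)

/-- The least normal subgroup of order divisible by `p`. -/
theorem exists_least_of_not_connected (h : ¬ Cfsg.IsSylowChainConnected p G) (hpG : p ∣ Nat.card G) :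
    ∃ Y : Subgroup G, Y.Normal ∧ p ∣ Nat.card Y ∧
      ∀ Z : Subgroup G, Z.Normal → p ∣ Nat.card Z → Y ≤ Z := by
  obtain ⟨Y, -, hY⟩ := Finite.exists_le_minimal (p := fun Y : Subgroup G => Y.Normal ∧ p ∣ Nat.card Y)
    (a := ⊤) ⟨inferInstance, by rwa [card_top]⟩
  refine ⟨Y, hY.prop.1, hY.prop.2, fun Z hZ hpZ => ?_⟩
  have := hY.prop.1
  exact (hY.le_of_le ⟨inferInstance, dvd_card_inf_of_not_connected h hY.prop.2 hpZ⟩ inf_le_left).trans
    inf_le_right

end CfsgLib.AlperinGoldschmidt
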