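import Cfsg.Agent.AlperinGoldschmidt.Least

/-!
The strong form of the Alperin–Goldschmidt theorem: radical subgroups with disconnected
quotient graph, elements in `O^p(X)`, and one final element normalizing `P`.
-/

set_option autoImplicit false
set_option linter.unusedSectionVars false

open Subgroup
open scoped Pointwise

namespace CfsgLib.AlperinGoldschmidt

open CfsgLib

variable {G : Type*} [Group G] [Finite G] {p : ℕ} [hp : Fact p.Prime]

theorem map_pPrimePCore_le {H K : Type*} [Group H] [Group K] (e : H ≃* K) :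
    (Cfsg.pPrimePCore p H).map e.toMonoidHom ≤ Cfsg.pPrimePCore p K := by
  let e' : H ⧸ Cfsg.pPrimeCore p H ≃* K ⧸ Cfsg.pPrimeCore p K :=
    QuotientGroup.congr _ _ e (PLocal.map_pPrimeCore_equiv e)
  rintro _ ⟨x, hx, rfl⟩
  have h1 := mem_map_of_mem e'.toMonoidHom (show QuotientGroup.mk' _ x ∈ Cfsg.pCore p _ from hx)
  rw [PLocal.map_pCore_equiv] at h1
  exact h1

theorem map_pPrimePCore_equiv {H K : Type*} [Group H] [Group K] (e : H ≃* K) :
    (Cfsg.pPrimePCore p H).map e.toMonoidHom = Cfsg.pPrimePCore p K := by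
  refine le_antisymm (map_pPrimePCore_le e) fun x hx => ⟨e.symm x, ?_, e.apply_symm_apply x⟩
  exact map_pPrimePCore_le e.symm ⟨x, hx, rfl⟩

theorem isSylowChainConnected_congr {H K : Type*} [Group H] [Group K] [Finite H] [Finite K]
    (e : H ≃* K) (h : Cfsg.IsSylowChainConnected p H) : Cfsg.IsSylowChainConnected p K := by
  rw [CfsgLib.LocalEvenBasic.isSylowChainConnected_iff] at h ⊢
  intro S T
  obtain ⟨S', rfl⟩ := Sylow.mapSurjective_surjective (f := e.toMonoidHom) e.surjective p S
  obtain ⟨T', rfl⟩ := Sylow.mapSurjective_surjective (f := e.toMonoidHom) e.surjective p T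
  induction h S' T' with
  | refl => exact .refl
  | @tail A B _ hAB ih =>
  refine ih.tail ⟨fun he => hAB.1 (Sylow.ext (map_injective (f := e.toMonoidHom) e.injective ?_)), fun hb => hAB.2 ?_⟩
  · exact congrArg (fun U : Sylow p K => (U : Subgroup K)) he
  · change (A : Subgroup H).map e.toMonoidHom ⊓ (B : Subgroup H).map e.toMonoidHom = ⊥ at hb
    rw [← map_inf _ _ _ e.injective] at hb
    exact (map_eq_bot_iff_of_injective _ e.injective).1 hb

/-- An admissible step: a subgroup `H` of `P`, the minimal `X`, and an element of `O^p(X)`. -/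
structure IsStep (P : Sylow p G) (H X : Subgroup G) (x : G) : Prop where
  le : H ≤ (P : Subgroup G)
  sylow : ¬ p ∣ ((P : Subgroup G) ⊓ normalizer (H : Set G)).relIndex (normalizer (H : Set G))
  centric : (P : Subgroup G) ⊓ centralizer (H : Set G) ≤ H
  core : (Cfsg.pPrimePCore p ↥(normalizer (H : Set G))).map (normalizer (H : Set G)).subtype =
    H ⊔ centralizer (H : Set G)
  disc : ¬ Cfsg.IsSylowChainConnected p
    (↥(normalizer (H : Set G)) ⧸ H.subgroupOf (normalizer (H : Set G)))
  least : H ≤ X ∧ X ≤ normalizer (H : Set G) ∧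
    (X.subgroupOf (normalizer (H : Set G))).Normal ∧ p ∣ H.relIndex X ∧
    ∀ Y : Subgroup G, H ≤ Y → Y ≤ normalizer (H : Set G) →
      (Y.subgroupOf (normalizer (H : Set G))).Normal → p ∣ H.relIndex Y → X ≤ Y
  mem : x ∈ (Cfsg.pResidual p ↥X).map X.subtype

/-- An element normalizing `P` carries steps to steps. -/
theorem IsStep.conj {P : Sylow p G} {H X : Subgroup G} {x y : G} (h : IsStep P H X x)
    (hy : y ∈ normalizer ((P : Subgroup G) : Set G)) :
    IsStep P (H.map (MulAut.conj y).toMonoidHom) (X.map (MulAut.conj y).toMonoidHom)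
      (y * x * y⁻¹) := by
  set f := MulAut.conj y with hf
  have hP : (P : Subgroup G).map f.toMonoidHom = P := mem_normalizer_iff_map_conj_eq.1 hy
  have hN : normalizer ((H.map f.toMonoidHom : Subgroup G) : Set G) =
      (normalizer (H : Set G)).map f.toMonoidHom := (map_normalizer_eq_of_bijective H f.bijective).symm
  have hC : centralizer ((H.map f.toMonoidHom : Subgroup G) : Set G) =
      (centralizer (H : Set G)).map f.toMonoidHom := by
    ext z
    rw [mem_map_equiv, mem_centralizer_iff, mem_centralizer_iff]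
    constructor
    · intro hz a ha
      apply f.injective
      simpa using hz (f a) ⟨a, ha, rfl⟩
    · rintro hz _ ⟨a, ha, rfl⟩
      apply f.symm.injective
      simpa using hz a ha
  set e : ↥(normalizer (H : Set G)) ≃* ↥(normalizer ((H.map f.toMonoidHom : Subgroup G) : Set G)) :=
    ((normalizer (H : Set G)).equivMapOfInjective f.toMonoidHom f.injective).trans
      (MulEquiv.subgroupCongr hN.symm) with he
  have hcomp : (normalizer ((H.map f.toMonoidHom : Subgroup G) : Set G)).subtype.comp e.toMonoidHom =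
      f.toMonoidHom.comp (normalizer (H : Set G)).subtype := MonoidHom.ext fun _ => rfl
  have hsub : ∀ Y : Subgroup G, (Y.subgroupOf (normalizer (H : Set G))).map e.toMonoidHom =
      (Y.map f.toMonoidHom).subgroupOf (normalizer ((H.map f.toMonoidHom : Subgroup G) : Set G)) := by
    intro Y
    ext z
    rw [mem_map_equiv, mem_subgroupOf, mem_subgroupOf, mem_map_equiv]
    have h1 : f ((e.symm z : ↥(normalizer (H : Set G))) : G) = (z : G) :=
      congrArg Subtype.val (e.apply_symm_apply z)
    rw [show f.symm (z : G) = ((e.symm z : ↥(normalizer (H : Set G))) : G) by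
      rw [← h1, f.symm_apply_apply]]
  refine ⟨hP ▸ map_mono h.le, ?_, ?_, ?_, ?_, ⟨map_mono h.least.1, hN ▸ map_mono h.least.2.1, ?_, ?_, ?_⟩, ?_⟩
  · rw [hN]
    nth_rw 1 [← hP]
    rw [← map_inf _ _ _ f.injective, relIndex_map_map_of_injective _ _ f.injective]
    exact h.sylow
  · rw [hC]
    nth_rw 1 [← hP]
    rw [← map_inf _ _ _ f.injective]
    exact map_mono h.centric
  · rw [hC, ← Subgroup.map_sup, ← h.core, map_map, ← hcomp, ← map_map]
    congr 1
    exact (map_pPrimePCore_equiv e).symm
  · intro hc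
    haveI hn1 : (H.subgroupOf (normalizer (H : Set G))).Normal := normal_in_normalizer
    refine h.disc ?_
    let q := QuotientGroup.congr (H.subgroupOf (normalizer (H : Set G)))
      ((H.map f.toMonoidHom).subgroupOf (normalizer ((H.map f.toMonoidHom : Subgroup G) : Set G)))
      e (hsub H)
    exact isSylowChainConnected_congr q.symm hc
  · rw [← hsub]
    exact h.least.2.2.1.map _ e.surjective
  · rw [relIndex_map_map_of_injective _ _ f.injective]; exact h.least.2.2.2.1
  · intro Y hHY hYN hYn hpY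
    have hY : (Y.comap f.toMonoidHom).map f.toMonoidHom = Y :=
      map_comap_eq_self_of_surjective f.surjective Y
    rw [← hY]
    refine map_mono (h.least.2.2.2.2 _ ?_ ?_ ?_ ?_)
    · exact fun a ha => hHY ⟨a, ha, rfl⟩
    · intro a ha
      obtain ⟨b, hb, hbe⟩ := (hN ▸ hYN) (show f a ∈ Y from ha)
      rwa [← f.injective hbe]
    · have := hYn.comap e.toMonoidHom
      rw [← hY, ← hsub, comap_map_eq_self_of_injective e.injective] at this
      exact this
    · rwa [← hY, relIndex_map_map_of_injective _ _ f.injective] at hpY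
  · rw [LocalStructure.map_pResidual]
    have := h.mem
    rw [LocalStructure.map_pResidual] at this
    rw [LocalStructure.pResOf] at this ⊢
    refine closure_mono ?_ (?_ : y * x * y⁻¹ ∈ closure (f '' {g | g ∈ X ∧ (orderOf g).Coprime p}))
    · rintro _ ⟨g, ⟨hg, hgo⟩, rfl⟩
      exact ⟨⟨g, hg, rfl⟩, by rwa [MulEquiv.orderOf_eq]⟩
    · have h1 := mem_map_of_mem f.toMonoidHom this
      rw [MonoidHom.map_closure] at h1
      exact h1

/-- Chains of admissible steps followed by an element of `N(P)`. -/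
inductive SChain (P : Sylow p G) : Set G → G → Prop
  | nil (A : Set G) (c y : G) (hA : A ⊆ (P : Set G)) (hc : c ∈ centralizer A)
      (hy : y ∈ normalizer ((P : Subgroup G) : Set G)) : SChain P A (c * y)
  | cons (A : Set G) (H X : Subgroup G) (x g : G) (hH : IsStep P H X x) (hA : A ⊆ (H : Set G))
      (h : SChain P ((fun a => x⁻¹ * a * x) '' A) g) : SChain P A (x * g)

theorem SChain.subset {P : Sylow p G} {A : Set G} {g : G} (h : SChain P A g) :
    A ⊆ (P : Set G) := by
  induction h with
  | nil A c y hA hc hy => exact hA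
  | cons A H X x g hH hA _ _ => exact hA.trans hH.le

theorem SChain.mono {P : Sylow p G} {A : Set G} {g : G} (h : SChain P A g) :
    ∀ {B : Set G}, B ⊆ A → SChain P B g := by
  induction h with
  | nil A c y hA hc hy => intro B hB; exact .nil B c y (hB.trans hA) (centralizer_le hB hc) hy
  | cons A H X x g hH hA _ ih =>
    intro B hB
    exact .cons B H X x g hH (hB.trans hA) (ih (Set.image_mono hB))

theorem SChain.left_cent {P : Sylow p G} {A : Set G} {g : G} (h : SChain P A g) :
    ∀ {c : G}, c ∈ centralizer A → SChain P A (c * g) := by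
  induction h with
  | nil A d y hA hd hy => intro c hc; rw [← mul_assoc]; exact .nil A _ _ hA (mul_mem hc hd) hy
  | cons A H X x g hH hA _ ih =>
    intro c hc
    rw [show c * (x * g) = x * (x⁻¹ * c * x * g) by group]
    exact .cons A H X x _ hH hA (ih (conj_mem_centralizer_image hc x))

theorem SChain.left_normalizer {P : Sylow p G} {A : Set G} {g : G} (h : SChain P A g) :
    ∀ {y : G}, y ∈ normalizer ((P : Subgroup G) : Set G) →
      SChain P ((fun a => y * a * y⁻¹) '' A) (y * g) := by
  induction h with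
  | nil A d z hA hd hz =>
    intro y hy
    rw [show y * (d * z) = y * d * y⁻¹ * (y * z) by group]
    refine .nil _ _ _ ?_ ?_ (mul_mem hy hz)
    · rintro _ ⟨a, ha, rfl⟩
      exact (mem_normalizer_iff.1 hy a).1 (hA ha)
    · rw [mem_centralizer_iff]
      rintro _ ⟨a, ha, rfl⟩
      calc y * a * y⁻¹ * (y * d * y⁻¹) = y * (a * d) * y⁻¹ := by group
        _ = y * (d * a) * y⁻¹ := by rw [mem_centralizer_iff.1 hd a ha]
        _ = _ := by group
  | cons A H X x g hH hA _ ih =>
    intro y hy
    rw [show y * (x * g) = y * x * y⁻¹ * (y * g) by group]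
    refine .cons _ _ _ _ _ (hH.conj hy) ?_ ?_
    · rintro _ ⟨a, ha, rfl⟩
      exact ⟨a, hA ha, by simp⟩
    · convert ih hy using 1
      rw [Set.image_image, Set.image_image]
      exact Set.image_congr fun a _ => by group

theorem SChain.trans {P : Sylow p G} {A : Set G} {g h : G} (h1 : SChain P A g)
    (h2 : SChain P ((fun a => g⁻¹ * a * g) '' A) h) : SChain P A (g * h) := by
  induction h1 with
  | nil A c y hA hc hy =>
    rw [mul_assoc]
    refine SChain.left_cent ((h2.left_normalizer hy).mono ?_) hc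
    intro a ha
    refine ⟨_, ⟨a, ha, rfl⟩, ?_⟩
    show y * ((c * y)⁻¹ * a * (c * y)) * y⁻¹ = a
    calc y * ((c * y)⁻¹ * a * (c * y)) * y⁻¹ = c⁻¹ * (a * c) := by group
      _ = a := by rw [mem_centralizer_iff.1 hc a ha]; group
  | cons A H X x g hH hA _ ih =>
    rw [mul_assoc]
    refine .cons A H X x _ hH hA (ih ?_)
    convert h2 using 1
    rw [Set.image_image]
    exact Set.image_congr fun a _ => by group

/-- The fusion hypothesis above a given order. -/
def FusesS (P : Sylow p G) (n : ℕ) : Prop :=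
  ∀ B : Subgroup G, B ≤ (P : Subgroup G) → n ≤ Nat.card B → ∀ g : G,
    (∀ b ∈ B, g⁻¹ * b * g ∈ (P : Subgroup G)) → SChain P (B : Set G) g

/-- Passing to a larger subgroup. -/
theorem schain_of_larger {P : Sylow p G} {D : Subgroup G} (hD : D ≤ (P : Subgroup G))
    (ih : FusesS P (Nat.card D + 1)) {S0 : Subgroup G} (hS0 : S0 ≤ (P : Subgroup G))
    (hlt : ¬ S0 ≤ D) {y : G} (hy : ∀ b ∈ D, y⁻¹ * b * y ∈ (P : Subgroup G))
    (hyS : ∀ b ∈ S0, y⁻¹ * b * y ∈ (P : Subgroup G)) : SChain P (D : Set G) y := by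
  refine (ih (D ⊔ S0) (sup_le hD hS0)
    (Transfer.card_lt_card_of_lt (left_lt_sup.mpr hlt)) y fun b hb => ?_).mono
    (SetLike.coe_subset_coe.mpr le_sup_left)
  have hle : D ⊔ S0 ≤ (P : Subgroup G).comap (MulAut.conj y⁻¹).toMonoidHom := by
    refine sup_le (fun b hb => ?_) fun b hb => ?_
    · simpa using hy b hb
    · simpa using hyS b hb
  simpa using hle hb

theorem conj_mem_of_normalizer {S : Subgroup G} {y b : G} (hy : y ∈ normalizer (S : Set G))
    (hb : b ∈ S) : y⁻¹ * b * y ∈ S := by
  have := (mem_normalizer_iff.1 (inv_mem hy) b).1 hb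
  rwa [inv_inv] at this

/-- The main step for a fully normalized `D`. -/
theorem schain_of_mem_normalizer {P : Sylow p G} {D : Subgroup G} (hD : D ≤ (P : Subgroup G))
    (hN : ¬ p ∣ ((P : Subgroup G) ⊓ normalizer (D : Set G)).relIndex (normalizer (D : Set G)))
    (ih : FusesS P (Nat.card D + 1)) {x : G} (hx : x ∈ normalizer (D : Set G)) :
    SChain P (D : Set G) x := by
  set N := normalizer (D : Set G) with hNdef
  set C := centralizer (D : Set G) with hCdef
  have hCN : C ≤ N := centralizer_le_normalizer _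
  have hNC : N ≤ normalizer (C : Set G) := normalizer_le_normalizer_centralizer D
  have hbig : ∀ {S0 : Subgroup G}, S0 ≤ (P : Subgroup G) → ¬ S0 ≤ D → ∀ {y : G}, y ∈ N →
      y ∈ normalizer (S0 : Set G) → SChain P (D : Set G) y := fun hS0 hlt y hy hyS =>
    schain_of_larger hD ih hS0 hlt (fun b hb => hD (conj_mem_of_normalizer hy hb))
      fun b hb => hS0 (conj_mem_of_normalizer hyS hb)
  rcases eq_or_lt_of_le hD with heq | hlt
  · subst heq
    simpa using SChain.nil _ 1 x subset_rfl (one_mem _) hx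
  by_cases hcen : (P : Subgroup G) ⊓ C ≤ D
  swap
  · obtain ⟨w, hw, y, hy, hyS, rfl⟩ := frattini_step hN hCN hNC hx
    exact (hbig inf_le_left hcen hy hyS).left_cent hw
  set R := (Cfsg.pPrimePCore p N).map N.subtype with hRdef
  set O := (Cfsg.pPrimeCore p N).map N.subtype with hOdef
  obtain ⟨hRN, hNR⟩ := pPrimePCore_map_facts (p := p) (N := N)
  have hDO := commute_pPrimeCore_normalizer hD
  have hOC : O ≤ C := fun a ha => mem_centralizer_iff.mpr fun b hb => (hDO a ha b hb).symm
  have hRsup := pPrimePCore_map_le_sup hN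
  by_cases hrad : (P : Subgroup G) ⊓ R ≤ D
  swap
  · obtain ⟨w, hw, y, hy, hyS, rfl⟩ := frattini_step hN hRN hNR hx
    have hn : (P : Subgroup G) ⊓ R ≤ normalizer (O : Set G) := by
      refine (inf_le_right.trans hRN).trans
        ((normal_subgroupOf_iff_le_normalizer (map_subtype_le _)).mp ?_)
      rw [subgroupOf, comap_map_eq_self_of_injective N.subtype_injective]; infer_instance
    obtain ⟨d, hd, o, ho, hwe⟩ : w ∈ (((P : Subgroup G) ⊓ R : Subgroup G) : Set G) * (O : Set G) := by
      rw [← coe_mul_of_left_le_normalizer_right _ _ hn]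
      exact hRsup hw
    change d * o = w at hwe
    have ho' : d * o * d⁻¹ ∈ O := (mem_normalizer_iff.mp (hn hd) o).mp ho
    rw [← hwe, show d * o * y = d * o * d⁻¹ * (d * y) by group]
    exact (hbig inf_le_left hrad (mul_mem (hRN (mem_inf.mp hd).2) hy)
      (mul_mem (le_normalizer hd) hyS)).left_cent (hOC ho')
  have hgood := isGood_of_fullyNormalized hD hN hcen hrad
  have hRDC : R = D ⊔ C := by
    refine le_antisymm ?_ (sup_le ?_ hgood.centralizer_le)
    · exact hgood.product.2.2.2.2.symm.le.trans (sup_le (hOC.trans le_sup_right) le_sup_left)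
    · exact hgood.product.2.1
  haveI hDn : (D.subgroupOf N).Normal := normal_in_normalizer
  set q := QuotientGroup.mk' (D.subgroupOf N) with hq
  have hqs : Function.Surjective q := QuotientGroup.mk'_surjective _
  -- the Sylow subgroup of `N / D`
  let PN : Sylow p N := Sylow.ofCard _ (Transfer.card_subgroupOf_eq P hN)
  have hPN : ∀ z : N, z ∈ (PN : Subgroup N) ↔ (z : G) ∈ (P : Subgroup G) := fun z => mem_subgroupOf
  let S : Sylow p (↥N ⧸ D.subgroupOf N) := PN.mapSurjective hqs
  have hScomap : ∀ z : N, q z ∈ (S : Subgroup _) ↔ (z : G) ∈ (P : Subgroup G) := by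
    intro z
    rw [← hPN]
    constructor
    · rintro ⟨z', hz', he⟩
      have h1 : z'⁻¹ * z ∈ D.subgroupOf N := QuotientGroup.eq.1 he
      have h2 := mul_mem hz' ((hPN _).2 (hD (mem_subgroupOf.1 h1)))
      simpa using h2
    · exact fun hz => ⟨z, hz, rfl⟩
  by_cases hconn : Cfsg.IsSylowChainConnected p (↥N ⧸ D.subgroupOf N)
  · -- connected quotient
    obtain ⟨n, c, h0, hn, -, hc⟩ := hconn S (q ⟨x, hx⟩ • S)
    have hnormD : ∀ z : N, (fun a => (z : G)⁻¹ * a * z) '' (D : Set G) ⊆ (D : Set G) := by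
      rintro z _ ⟨a, ha, rfl⟩
      exact conj_mem_of_normalizer z.2 ha
    have htr : ∀ (z : N) (w : G), SChain P (D : Set G) z → SChain P (D : Set G) w →
        SChain P (D : Set G) ((z : G) * w) := fun z w h1 h2 => h1.trans (h2.mono (hnormD z))
    have key : ∀ i : Fin (n + 1), ∃ h : N, q h • S = c i ∧ SChain P (D : Set G) (h : G) := by
      intro i
      induction i using Fin.induction with
      | zero => exact ⟨1, by rw [map_one, one_smul, h0],
          by simpa using SChain.nil (D : Set G) 1 1 (hD : (D : Set G) ⊆ P) (one_mem _) (one_mem _)⟩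
      | succ i ihi =>
        obtain ⟨h, hh, hch⟩ := ihi
        obtain ⟨-, hne⟩ := hc i
        obtain ⟨t, ht⟩ := MulAction.exists_smul_eq (↥N ⧸ D.subgroupOf N) S ((q h)⁻¹ • c i.succ)
        obtain ⟨t, rfl⟩ := hqs t
        refine ⟨h * t, by rw [map_mul, mul_smul, ht, smul_inv_smul], ?_⟩
        rw [Subgroup.coe_mul]
        refine htr h _ hch ?_
        -- `S` and `t • S` meet nontrivially
        obtain ⟨v, hv, hv1⟩ : ∃ v : ↥N ⧸ D.subgroupOf N,
            v ∈ (S : Subgroup (↥N ⧸ D.subgroupOf N)) ⊓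
              ((q t • S : Sylow p (↥N ⧸ D.subgroupOf N)) : Subgroup (↥N ⧸ D.subgroupOf N)) ∧
            v ≠ 1 := by
          rw [← hh, ← smul_inv_smul (q h) (c i.succ), ← ht] at hne
          obtain ⟨⟨u, hu⟩, hu1⟩ := Subgroup.ne_bot_iff_exists_ne_one.1 hne
          replace hu1 : u ≠ 1 := fun e => hu1 (Subtype.ext e)
          rw [Sylow.coe_subgroup_smul, Sylow.coe_subgroup_smul (g := q h), Subgroup.mem_inf] at hu
          obtain ⟨⟨u1, hu1', rfl⟩, ⟨u2, hu2, hu2e⟩⟩ := hu
          refine ⟨u1, Subgroup.mem_inf.2 ⟨hu1', ?_⟩, fun e => hu1 (by subst e; simp)⟩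
          rwa [← (MulAut.conj (q h)).injective hu2e]
        set S0 := (P : Subgroup G) ⊓ (N ⊓ (P : Subgroup G).comap (MulAut.conj (t : G)⁻¹).toMonoidHom)
        obtain ⟨w, rfl⟩ := hqs v
        obtain ⟨hwS, hwT⟩ := Subgroup.mem_inf.1 hv
        rw [Sylow.coe_subgroup_smul] at hwT
        obtain ⟨v', hv', hv'e⟩ := hwT
        have hwt : q (t⁻¹ * w * t) ∈ (S : Subgroup _) := by
          have e : q (t⁻¹ * w * t) = v' := by
            rw [map_mul, map_mul, map_inv, ← hv'e]
            simp [mul_assoc]
          rw [e]; exact hv'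
        refine schain_of_larger hD ih (S0 := S0) inf_le_left (fun hle => hv1 ?_)
          (fun b hb => hD (conj_mem_of_normalizer t.2 hb)) (fun b hb => by have h5 := mem_comap.1 hb.2.2; rwa [MulEquiv.coe_toMonoidHom, MulAut.conj_apply, inv_inv] at h5)
        refine (QuotientGroup.eq_one_iff w).2 (mem_subgroupOf.2 (hle ?_))
        exact Subgroup.mem_inf.2 ⟨(hScomap w).1 hwS, Subgroup.mem_inf.2 ⟨w.2,
          by simpa using (hScomap _).1 hwt⟩⟩
    obtain ⟨h, hh, hch⟩ := key (Fin.last n)
    rw [hn] at hh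
    have hw : q (h⁻¹ * ⟨x, hx⟩) • S = S := by
      rw [map_mul, map_inv, mul_smul, ← hh, inv_smul_smul]
    have hwn := Sylow.smul_eq_iff_mem_normalizer.1 hw
    set w : N := h⁻¹ * ⟨x, hx⟩ with hwdef
    have hxw : x = (h : G) * (w : G) := by simp [hwdef]
    rw [hxw]
    refine htr h _ hch ?_
    have hPN' : ¬ ((P : Subgroup G) ⊓ N) ≤ D := fun hle => by
      have h1 := Transfer.lt_inf_normalizer P.2 hlt
      exact h1.not_ge hle
    refine schain_of_larger hD ih inf_le_left hPN'
      (fun b hb => hD (conj_mem_of_normalizer w.2 hb)) fun b hb => ?_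
    have h2 : q (w⁻¹ * ⟨b, hb.2⟩ * w) ∈ (S : Subgroup _) := by
      rw [map_mul, map_mul, map_inv]
      exact conj_mem_of_normalizer hwn ((hScomap _).2 hb.1)
    simpa using (hScomap _).1 h2
  · -- disconnected quotient: the least normal subgroup
    have hpq : p ∣ Nat.card (↥N ⧸ D.subgroupOf N) := by
      by_contra hnd
      refine hconn fun S₁ S₂ => ?_
      have hb : ∀ T : Sylow p (↥N ⧸ D.subgroupOf N),
          (T : Subgroup (↥N ⧸ D.subgroupOf N)) = ⊥ := fun T => by
        obtain ⟨k, hk⟩ := IsPGroup.iff_card.1 T.2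
        rcases k with _ | k
        · exact card_eq_one.1 (by rw [hk, pow_zero])
        · exact absurd ((dvd_pow_self p k.succ_ne_zero).trans (hk ▸ card_subgroup_dvd_card _)) hnd
      have : S₁ = S₂ := Sylow.ext (by rw [hb, hb])
      subst this
      exact ⟨0, fun _ => S₁, rfl, rfl, fun _ => inf_le_left, fun i => i.elim0⟩
    obtain ⟨Y, hYn, hpY, hYleast⟩ := exists_least_of_not_connected hconn hpq
    set X := (Y.comap q).map N.subtype with hXdef
    have hXN : X ≤ N := map_subtype_le _
    have hXsub : X.subgroupOf N = Y.comap q := comap_map_eq_self_of_injective N.subtype_injective _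
    have hDX : D ≤ X := fun d hd => ⟨⟨d, le_normalizer hd⟩, by
      show q _ ∈ Y
      rw [show q ⟨d, le_normalizer hd⟩ = 1 from (QuotientGroup.eq_one_iff _).2 (mem_subgroupOf.2 hd)]
      exact one_mem _, rfl⟩
    have hrel : ∀ Z : Subgroup N, D.relIndex (Z.map N.subtype) = Nat.card ↥(Z.map q) := by
      intro Z
      have hDeq : (D.subgroupOf N).map N.subtype = D := map_subgroupOf_eq_of_le le_normalizer
      nth_rw 1 [← hDeq]
      rw [relIndex_map_map_of_injective _ _ N.subtype_injective]
      have hcb : (⊥ : Subgroup (↥N ⧸ D.subgroupOf N)).comap q = D.subgroupOf N := by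
        rw [MonoidHom.comap_bot, hq, QuotientGroup.ker_mk']
      have h3 := relIndex_comap (⊥ : Subgroup (↥N ⧸ D.subgroupOf N)) q Z
      rw [relIndex_bot_left] at h3
      rw [← h3]
      exact congrArg (fun W : Subgroup ↥N => W.relIndex Z) hcb.symm
    have hXnorm : N ≤ normalizer (X : Set G) := by
      refine (normal_subgroupOf_iff_le_normalizer hXN).1 ?_
      rw [hXsub]
      exact hYn.comap q
    have hpX : p ∣ D.relIndex X := by
      rw [hXdef, hrel, map_comap_eq_self_of_surjective hqs]; exact hpY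
    have hleast : ∀ Z : Subgroup G, D ≤ Z → Z ≤ N → (Z.subgroupOf N).Normal → p ∣ D.relIndex Z →
        X ≤ Z := by
      intro Z hDZ hZN hZn hpZ
      have hker : q.ker ≤ Z.subgroupOf N := by
        rw [hq, QuotientGroup.ker_mk']
        exact fun a ha => hDZ ha
      have h1 : Y ≤ (Z.subgroupOf N).map q := hYleast _ (hZn.map q hqs) (by
        rw [← hrel, map_subgroupOf_eq_of_le hZN]; exact hpZ)
      rw [← map_subgroupOf_eq_of_le hZN, ← comap_map_eq_self hker]
      exact map_mono (comap_mono h1)
    obtain ⟨w, hw, y, hy, hyS, rfl⟩ := frattini_step hN hXN hXnorm hx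
    have hPX : ¬ (P : Subgroup G) ⊓ X ≤ D := fun hle => by
      refine not_dvd_relIndex_inf hN hXN hXnorm (dvd_trans hpX ?_)
      exact relIndex_dvd_of_le_left X hle
    -- `X = O^p(X) (P ⊓ X)`
    have hPXs : ¬ p ∣ ((P : Subgroup G) ⊓ X).relIndex X := not_dvd_relIndex_inf hN hXN hXnorm
    let T : Sylow p X := Sylow.ofCard _ (Transfer.card_subgroupOf_eq P hPXs)
    have hres := LocalStructure.pResidual_normal (p := p) (G := ↥X)
    obtain ⟨o, ho, d, hd, hod⟩ : (⟨w, hw⟩ : X) ∈
        ((Cfsg.pResidual p ↥X : Subgroup X) : Set X) * ((T : Subgroup X) : Set X) := by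
      rw [← normal_mul, sup_comm, LocalStructure.sylow_sup_pResidual]
      exact mem_top _
    have hwod : w = (o : G) * (d : G) := (congrArg Subtype.val hod).symm
    rw [hwod, mul_assoc]
    have hdP : (d : G) ∈ (P : Subgroup G) := mem_subgroupOf.1 hd
    refine SChain.cons _ D X (o : G) _ ⟨hD, hN, hcen, hRDC, hconn,
      ⟨hDX, hXN, by rw [hXsub]; exact hYn.comap q, hpX, hleast⟩, ⟨o, ho, rfl⟩⟩ subset_rfl ?_
    refine (hbig inf_le_left hPX (mul_mem (hXN d.2) hy)
      (mul_mem (le_normalizer (Subgroup.mem_inf.2 ⟨hdP, d.2⟩)) hyS)).mono ?_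
    rintro _ ⟨a, ha, rfl⟩
    exact conj_mem_of_normalizer (hXN o.2) ha

/-- Fusion in `P` is composed of admissible steps. -/
theorem fusesS (P : Sylow p G) (n : ℕ) : FusesS P n := by
  induction hk : Nat.card G + 1 - n using Nat.strong_induction_on generalizing n with
  | _ k ih =>
  have key : ∀ {A : Set G} {g : G}, Transfer.FusionChain P A g → A ⊆ (P : Set G) →
      n ≤ Nat.card (Subgroup.closure A) → SChain P A g := by
    intro A g h
    induction h with
    | nil A =>
      intro hA _
      simpa using SChain.nil A 1 1 hA (one_mem _) (one_mem _)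
    | cons A Q x g hA ht hx _ ih' =>
      intro hAP hn
      set D := (P : Subgroup G) ⊓ (Q : Subgroup G)
      have hnD : n ≤ Nat.card D := hn.trans (card_le_of_le ((Subgroup.closure_le _).mpr hA))
      have hGc : Nat.card D ≤ Nat.card G := card_le_card_group D
      have h1 : SChain P A x := (schain_of_mem_normalizer inf_le_left ht.1
        (ih _ (by omega) (Nat.card D + 1) rfl) hx).mono hA
      refine h1.trans (ih' ?_ ?_)
      · rintro _ ⟨a, ha, rfl⟩
        exact (conj_mem_of_normalizer hx (hA ha)).1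
      · refine hn.trans (le_of_eq ?_)
        have e : Subgroup.closure ((fun a => x⁻¹ * a * x) '' A) =
            (Subgroup.closure A).map (MulAut.conj x⁻¹).toMonoidHom := by
          rw [MonoidHom.map_closure]
          congr 1
          exact Set.image_congr fun a _ => by simp
        rw [e, card_map_of_injective (f := (MulAut.conj x⁻¹).toMonoidHom)
          (MulAut.conj x⁻¹).injective]
  intro B hB hn g hg
  refine key ?_ hB (by rwa [Subgroup.closure_eq])
  obtain ⟨g₀, hg₀, hQ⟩ := Transfer.exists_fusionChain_smul P (g • P)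
  have hBQ : (B : Set G) ⊆
      (((P : Subgroup G) ⊓ ((g • P : Sylow p G) : Subgroup G) : Subgroup G) : Set G) :=
    fun b hb => ⟨hB hb, Transfer.mem_smul_iff.mpr (hg b hb)⟩
  have hnorm : g₀⁻¹ * g ∈ normalizer ((P : Subgroup G) : Set G) :=
    Sylow.smul_eq_iff_mem_normalizer.mp (by rw [mul_smul, hQ])
  have h2 := (hg₀.mono hBQ).trans
    (Transfer.FusionChain.of_mem_normalizer (A := (fun a => g₀⁻¹ * a * g₀) '' (B : Set G)) ?_ hnorm)
  · simpa [← mul_assoc] using h2
  · rintro _ ⟨b, hb, rfl⟩
    have h3 : (MulAut.conj g₀⁻¹).toMonoidHom b ∈ ((g₀⁻¹ • (g • P) : Sylow p G) : Subgroup G) := by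
      rw [Sylow.coe_subgroup_smul]
      exact ⟨b, (hBQ hb).2, rfl⟩
    rw [hQ] at h3
    simp only [MulEquiv.coe_toMonoidHom, MulAut.conj_apply, inv_inv] at h3
    exact h3

theorem exists_schain {P : Sylow p G} {A : Set G} {g : G} (hA : A ⊆ (P : Set G))
    (hg : (fun a => g⁻¹ * a * g) '' A ⊆ (P : Set G)) : SChain P A g := by
  refine (fusesS P 0 (Subgroup.closure A) ((closure_le _).mpr hA) (Nat.zero_le _) g ?_).mono
    subset_closure
  intro b hb
  have hle : Subgroup.closure A ≤ ((P : Subgroup G)).comap (MulAut.conj g⁻¹).toMonoidHom :=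
    (closure_le _).mpr fun a ha => by
      show g⁻¹ * a * g⁻¹⁻¹ ∈ (P : Subgroup G)
      rw [inv_inv]
      exact hg ⟨a, ha, rfl⟩
  simpa using hle hb

end CfsgLib.AlperinGoldschmidt
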